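import Groth.Prelude.Def_Curv2
import Mathlib.FieldTheory.Normal.Basic
import Mathlib.FieldTheory.Galois.Basic
import Mathlib.AlgebraicGeometry.ResidueField
import Mathlib.AlgebraicGeometry.PullbackCarrier

/-!
Galois transitivity on the fibres of a base change to a normal extension.
-/

universe u

open CategoryTheory Limits AlgebraicGeometry

namespace Groth.Agent.BcField

variable (k : Type u) [Field k] (X : Scheme.{u}) [X.Over (Spec (CommRingCat.of k))]
  (K : Type u) [Field K] [Algebra k K]

theorem galAct_fst (σ : K ≃ₐ[k] K) : Curv2.galAct k X K σ ≫ Curv2.bcFst k X K = Curv2.bcFst k X K :=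
  (pullback.lift_fst _ _ _).trans (Category.comp_id _)

theorem galAct_snd (σ : K ≃ₐ[k] K) : Curv2.galAct k X K σ ≫ Curv2.bcSnd k X K =
    Curv2.bcSnd k X K ≫ Spec.map (CommRingCat.ofHom (σ : K →ₐ[k] K).toRingHom) :=
  pullback.lift_snd _ _ _

theorem bcFst_galAct_apply (σ : K ≃ₐ[k] K) (x : Curv2.bc k X K) :
    Curv2.bcFst k X K (Curv2.galAct k X K σ x) = Curv2.bcFst k X K x := by
  conv_rhs => rw [← galAct_fst k X K σ]
  rfl

/-- Two points over the same point differ by an automorphism. -/
theorem exists_galAct [Normal k K] {x y : Curv2.bc k X K} (hxy : Curv2.bcFst k X K x = Curv2.bcFst k X K y) :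
    ∃ σ : K ≃ₐ[k] K, Curv2.galAct k X K σ x = y := by
  let π := Curv2.bcFst k X K
  let P := Curv2.bcSnd k X K
  obtain ⟨z, hz1, hz2⟩ := Scheme.Pullback.exists_preimage_pullback (f := π) (g := π) x y hxy
  let W := pullback π π
  let L := W.residueField z
  let g1 : Spec (CommRingCat.of L) ⟶ Curv2.bc k X K := W.fromSpecResidueField z ≫ pullback.fst π π
  let g2 : Spec (CommRingCat.of L) ⟶ Curv2.bc k X K := W.fromSpecResidueField z ≫ pullback.snd π π
  let e1 : K →+* L := (Spec.preimage (g1 ≫ P)).hom
  let e2 : K →+* L := (Spec.preimage (g2 ≫ P)).hom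
  have he1 : g1 ≫ P = Spec.map (CommRingCat.ofHom e1) := (Spec.map_preimage _).symm
  have he2 : g2 ≫ P = Spec.map (CommRingCat.ofHom e2) := (Spec.map_preimage _).symm
  have hg : g1 ≫ π = g2 ≫ π := by
    simp only [g1, g2, Category.assoc, pullback.condition]
  have hag : ∀ c : k, e1 (algebraMap k K c) = e2 (algebraMap k K c) := by
    have h : (g1 ≫ P) ≫ Spec.map (CommRingCat.ofHom (algebraMap k K)) =
        (g2 ≫ P) ≫ Spec.map (CommRingCat.ofHom (algebraMap k K)) := by
      simp only [Category.assoc, P, ← pullback.condition]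
      rw [← Category.assoc, hg, Category.assoc]
    rw [he1, he2, ← Spec.map_comp, ← Spec.map_comp] at h
    exact fun c => ConcreteCategory.congr_hom (Spec.map_injective h) c
  letI : Algebra K L := e1.toAlgebra
  letI : Algebra k L := (e1.comp (algebraMap k K)).toAlgebra
  haveI : IsScalarTower k K L := IsScalarTower.of_algebraMap_eq' rfl
  let E2 : K →ₐ[k] L := { e2 with commutes' := fun c => (hag c).symm }
  let σ : K ≃ₐ[k] K := E2.restrictNormal' K
  have hσ : e1.comp (σ : K →ₐ[k] K).toRingHom = e2 := RingHom.ext fun c => AlgHom.restrictNormal_commutes E2 K c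
  refine ⟨σ, ?_⟩
  have hg2 : g1 ≫ Curv2.galAct k X K σ = g2 := by
    refine pullback.hom_ext ?_ ?_
    · rw [Category.assoc, galAct_fst]; exact hg
    · rw [Category.assoc, galAct_snd, ← Category.assoc, he1, he2, ← Spec.map_comp, ← CommRingCat.ofHom_comp, hσ]
  obtain ⟨p⟩ : Nonempty ↥(Spec (CommRingCat.of L)) := ⟨IsLocalRing.closedPoint L⟩
  have hp1 : g1 p = x := by
    show pullback.fst π π (W.fromSpecResidueField z p) = x
    rw [Scheme.fromSpecResidueField_apply]; exact hz1
  have hp2 : g2 p = y := by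
    show pullback.snd π π (W.fromSpecResidueField z p) = y
    rw [Scheme.fromSpecResidueField_apply]; exact hz2
  rw [← hp1, ← hp2, ← hg2]
  rfl

theorem isIso_galAct (σ : K ≃ₐ[k] K) : IsIso (Curv2.galAct k X K σ) := by
  haveI : IsIso (Spec.map (CommRingCat.ofHom (σ : K →ₐ[k] K).toRingHom)) := by
    haveI : IsIso (CommRingCat.ofHom (σ : K →ₐ[k] K).toRingHom) := σ.toRingEquiv.toCommRingCatIso.isIso_hom
    infer_instance
  unfold Curv2.galAct
  infer_instance

variable (F : Type u) [Field F] [Algebra k F] [Algebra F K] [IsScalarTower k F K]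

/-- The projection between two base changes. -/
noncomputable def bcTrans : Curv2.bc k X K ⟶ Curv2.bc k X F :=
  pullback.lift (Curv2.bcFst k X K) (Curv2.bcSnd k X K ≫ Spec.map (CommRingCat.ofHom (algebraMap F K))) (by
    rw [Category.assoc, ← Spec.map_comp, ← CommRingCat.ofHom_comp, ← IsScalarTower.algebraMap_eq]
    exact pullback.condition)

theorem bcTrans_fst : bcTrans k X K F ≫ Curv2.bcFst k X F = Curv2.bcFst k X K := pullback.lift_fst _ _ _

/-- Two points with the same image at an intermediate level differ by an automorphism over it. -/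
theorem exists_galAct_over [Normal k K] {x y : Curv2.bc k X K} (hxy : bcTrans k X K F x = bcTrans k X K F y) :
    ∃ σ : K ≃ₐ[k] K, (∀ c : F, σ (algebraMap F K c) = algebraMap F K c) ∧ Curv2.galAct k X K σ x = y := by
  let π := Curv2.bcFst k X K
  let P := Curv2.bcSnd k X K
  let q := bcTrans k X K F
  obtain ⟨z, hz1, hz2⟩ := Scheme.Pullback.exists_preimage_pullback (f := q) (g := q) x y hxy
  let W := pullback q q
  let L := W.residueField z
  let g1 : Spec (CommRingCat.of L) ⟶ Curv2.bc k X K := W.fromSpecResidueField z ≫ pullback.fst q q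
  let g2 : Spec (CommRingCat.of L) ⟶ Curv2.bc k X K := W.fromSpecResidueField z ≫ pullback.snd q q
  let e1 : K →+* L := (Spec.preimage (g1 ≫ P)).hom
  let e2 : K →+* L := (Spec.preimage (g2 ≫ P)).hom
  have he1 : g1 ≫ P = Spec.map (CommRingCat.ofHom e1) := (Spec.map_preimage _).symm
  have he2 : g2 ≫ P = Spec.map (CommRingCat.ofHom e2) := (Spec.map_preimage _).symm
  have hgq : g1 ≫ q = g2 ≫ q := by
    simp only [g1, g2, Category.assoc, pullback.condition]
  have hg : g1 ≫ π = g2 ≫ π := by
    simp only [π, ← bcTrans_fst k X K F, ← Category.assoc]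
    exact congrArg (· ≫ Curv2.bcFst k X F) hgq
  have hagF : ∀ c : F, e1 (algebraMap F K c) = e2 (algebraMap F K c) := by
    have h : (g1 ≫ P) ≫ Spec.map (CommRingCat.ofHom (algebraMap F K)) =
        (g2 ≫ P) ≫ Spec.map (CommRingCat.ofHom (algebraMap F K)) := by
      have := congrArg (· ≫ Curv2.bcSnd k X F) hgq
      simpa only [q, bcTrans, Category.assoc, pullback.lift_snd] using this
    rw [he1, he2, ← Spec.map_comp, ← Spec.map_comp] at h
    exact fun c => ConcreteCategory.congr_hom (Spec.map_injective h) c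
  letI : Algebra K L := e1.toAlgebra
  letI : Algebra k L := (e1.comp (algebraMap k K)).toAlgebra
  haveI : IsScalarTower k K L := IsScalarTower.of_algebraMap_eq' rfl
  let E2 : K →ₐ[k] L := { e2 with commutes' := fun c => (by
    have := hagF (algebraMap k F c)
    rw [← IsScalarTower.algebraMap_apply] at this
    exact this.symm) }
  let σ : K ≃ₐ[k] K := E2.restrictNormal' K
  have hσ : e1.comp (σ : K →ₐ[k] K).toRingHom = e2 := RingHom.ext fun c => AlgHom.restrictNormal_commutes E2 K c
  refine ⟨σ, fun c => e1.injective ((RingHom.congr_fun hσ _).trans (hagF c).symm), ?_⟩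
  have hg2 : g1 ≫ Curv2.galAct k X K σ = g2 := by
    refine pullback.hom_ext ?_ ?_
    · rw [Category.assoc, galAct_fst]; exact hg
    · rw [Category.assoc, galAct_snd, ← Category.assoc, he1, he2, ← Spec.map_comp, ← CommRingCat.ofHom_comp, hσ]
  obtain ⟨p⟩ : Nonempty ↥(Spec (CommRingCat.of L)) := ⟨IsLocalRing.closedPoint L⟩
  have hp1 : g1 p = x := by
    show pullback.fst q q (W.fromSpecResidueField z p) = x
    rw [Scheme.fromSpecResidueField_apply]; exact hz1
  have hp2 : g2 p = y := by
    show pullback.snd q q (W.fromSpecResidueField z p) = y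
    rw [Scheme.fromSpecResidueField_apply]; exact hz2
  rw [← hp1, ← hp2, ← hg2]
  rfl

end Groth.Agent.BcField
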